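import Groth.Agent.FPHomLib.Main
import Groth.Agent.FPLocal.EpiFree
import Groth.Agent.FPLocal.Ops

/-!
# The internal hom out of a module of finite presentation, locally as a kernel on sections
-/

set_option autoImplicit false
set_option linter.style.haveILetI false
set_option backward.isDefEq.respectTransparency false
set_option backward.isDefEq.respectTransparency.types false
universe u

open CategoryTheory Limits Opposite

namespace Groth.Agent.FSchHomLib

noncomputable section

variable {C : Type u} [SmallCategory C] {J : GrothendieckTopology C} {O : Sheaf J CommRingCat.{u}}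

/-- `M` over `V` is the kernel of a map between finite powers of `G`, on sections. -/
structure LocKer (M G : ModSite.Mod O) (V : C) where
  /-- index of the source -/
  I : Type u
  /-- index of the target -/
  K : Type u
  fI : Fintype I
  fK : Fintype K
  /-- the map into the power of `G` -/
  ev : ∀ ⦃Z : C⦄ (_ : Z ⟶ V), M.val.obj (op Z) →ₗ[(ModSite.ringSh O).obj.obj (op Z)] (I → G.val.obj (op Z))
  /-- the map it is the kernel of -/
  φ : ∀ ⦃Z : C⦄ (_ : Z ⟶ V), (I → G.val.obj (op Z)) →ₗ[(ModSite.ringSh O).obj.obj (op Z)] (K → G.val.obj (op Z))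
  ev_res : ∀ ⦃Z W : C⦄ (f : Z ⟶ V) (g : W ⟶ Z) (x : M.val.obj (op Z)) (i : I),
    ev (g ≫ f) (FPLocal.mres M g.op x) i = FPLocal.mres G g.op (ev f x i)
  φ_res : ∀ ⦃Z W : C⦄ (f : Z ⟶ V) (g : W ⟶ Z) (m : I → G.val.obj (op Z)) (k : K),
    φ (g ≫ f) (fun i => FPLocal.mres G g.op (m i)) k = FPLocal.mres G g.op (φ f m k)
  inj : ∀ ⦃Z : C⦄ (f : Z ⟶ V), Function.Injective (ev f)
  comp : ∀ ⦃Z : C⦄ (f : Z ⟶ V) (x : M.val.obj (op Z)), φ f (ev f x) = 0
  exact : ∀ ⦃Z : C⦄ (f : Z ⟶ V) (m : I → G.val.obj (op Z)), φ f m = 0 → ∃ x, ev f x = m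

variable {M G : ModSite.Mod O} {V : C}

/-- Sections of maps, additive in the map. -/
def appAt {A B : ModSite.Mod (O.over V)} (Z : Over V) :
    (A ⟶ B) →+ (A.val.obj (op Z) → B.val.obj (op Z)) :=
  AddMonoidHom.mk' (fun f x => (f.val.app (op Z)).hom x) fun _ _ => rfl

variable [HasFiniteBiproducts (ModSite.Mod (O.over V))]

theorem tot {ι : Type u} [Fintype ι] (Q : ι → ModSite.Mod (O.over V)) :
    ∑ i, biproduct.π Q i ≫ biproduct.ι Q i = 𝟙 (⨁ Q) :=
  IsBilimit.total (biproduct.isBilimit Q)

theorem tot_app {ι : Type u} [Fintype ι] (Q : ι → ModSite.Mod (O.over V)) (Z : Over V)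
    (z : (⨁ Q).val.obj (op Z)) :
    ∑ i, ((biproduct.π Q i ≫ biproduct.ι Q i).val.app (op Z)).hom z = z := by
  have e := congrFun (congrArg (appAt Z) (tot Q)) z
  rw [map_sum, Finset.sum_apply] at e
  exact e

/-- A kernel of a map between powers gives the data on sections. -/
def LocKer.ofExact {I K : Type u} [Fintype I] [Fintype K]
    (α : (ModSite.restr O V).obj M ⟶ ⨁ fun _ : I => (ModSite.restr O V).obj G)
    (φ : (⨁ fun _ : I => (ModSite.restr O V).obj G) ⟶ ⨁ fun _ : K => (ModSite.restr O V).obj G)
    (w : α ≫ φ = 0) (hm : Mono α) (he : (ShortComplex.mk α φ w).Exact) : LocKer M G V where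
  I := I
  K := K
  fI := inferInstance
  fK := inferInstance
  ev Z f :=
    { toFun := fun x i => ((α ≫ biproduct.π _ i).val.app (op (Over.mk f))).hom x
      map_add' := fun x y => funext fun i => map_add ((α ≫ biproduct.π _ i).val.app (op (Over.mk f))).hom x y
      map_smul' := fun r x => funext fun i => map_smul ((α ≫ biproduct.π _ i).val.app (op (Over.mk f))).hom r x }
  φ Z f :=
    { toFun := fun m k => ∑ i, ((biproduct.ι (fun _ : I => (ModSite.restr O V).obj G) i ≫ φ ≫ biproduct.π _ k).val.app (op (Over.mk f))).hom (m i)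
      map_add' := fun m m' => funext fun k => by
        refine Eq.trans (Finset.sum_congr rfl fun i _ => ?_) Finset.sum_add_distrib
        exact map_add ((biproduct.ι (fun _ : I => (ModSite.restr O V).obj G) i ≫ φ ≫ biproduct.π _ k).val.app (op (Over.mk f))).hom (m i) (m' i)
      map_smul' := fun r m => funext fun k => by
        refine Eq.trans ?_ (Finset.smul_sum (r := r) (s := (Finset.univ : Finset I))
          (f := fun i => ((biproduct.ι (fun _ : I => (ModSite.restr O V).obj G) i ≫ φ ≫ biproduct.π _ k).val.app (op (Over.mk f))).hom (m i))).symm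
        refine Finset.sum_congr rfl fun i _ => ?_
        exact map_smul ((biproduct.ι (fun _ : I => (ModSite.restr O V).obj G) i ≫ φ ≫ biproduct.π _ k).val.app (op (Over.mk f))).hom r (m i) }
  ev_res Z W f g x i := FPLocal.app_mres (α ≫ biproduct.π _ i) (Over.homMk g : Over.mk (g ≫ f) ⟶ Over.mk f) x
  φ_res Z W f g m k := by
    show (∑ i, _) = FPLocal.mres G g.op (∑ i, _)
    rw [map_sum]
    exact Finset.sum_congr rfl fun i _ =>
      FPLocal.app_mres (biproduct.ι (fun _ : I => (ModSite.restr O V).obj G) i ≫ φ ≫ biproduct.π _ k) (Over.homMk g : Over.mk (g ≫ f) ⟶ Over.mk f) (m i)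
  inj Z f x y h := by
    haveI := hm
    refine FPLocal.app_injective_of_mono α (Over.mk f) ?_
    have ht := tot_app (fun _ : I => (ModSite.restr O V).obj G) (Over.mk f)
    rw [← ht ((α.val.app _).hom x), ← ht ((α.val.app _).hom y)]
    exact Finset.sum_congr rfl fun i _ =>
      congrArg ((biproduct.ι (fun _ : I => (ModSite.restr O V).obj G) i).val.app (op (Over.mk f))).hom (congrFun h i)
  comp Z f x := funext fun k => by
    have e : ∑ i, (α ≫ biproduct.π _ i) ≫ biproduct.ι (fun _ : I => (ModSite.restr O V).obj G) i ≫ φ ≫ biproduct.π _ k = 0 := by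
      simp only [Category.assoc]
      rw [← Preadditive.comp_sum]
      simp only [← Category.assoc (biproduct.π _ _)]
      rw [← Preadditive.sum_comp, tot, Category.id_comp, reassoc_of% w, zero_comp]
    have e' := congrFun (congrArg (appAt (Over.mk f)) e) x
    rw [map_sum, Finset.sum_apply, map_zero] at e'
    exact e'
  exact Z f m hm0 := by
    classical
    let z : (⨁ fun _ : I => (ModSite.restr O V).obj G).val.obj (op (Over.mk f)) :=
      ∑ i, ((biproduct.ι (fun _ : I => (ModSite.restr O V).obj G) i).val.app (op (Over.mk f))).hom (m i)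
    have hz : (φ.val.app (op (Over.mk f))).hom z = 0 := by
      have ht := tot_app (fun _ : K => (ModSite.restr O V).obj G) (Over.mk f)
      rw [← ht ((φ.val.app _).hom z)]
      refine Finset.sum_eq_zero fun k _ => ?_
      refine Eq.trans (congrArg ((biproduct.ι (fun _ : K => (ModSite.restr O V).obj G) k).val.app (op (Over.mk f))).hom ?_) (map_zero _)
      refine Eq.trans ?_ (congrFun hm0 k)
      show ((φ ≫ biproduct.π _ k).val.app (op (Over.mk f))).hom z = _
      rw [map_sum]
      rfl
    haveI := hm
    let e := (IsLimit.conePointUniqueUpToIso (kernelIsKernel φ) he.fIsKernel)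
    obtain ⟨y, hy⟩ := FPLocal.exists_kernel_preimage φ z hz
    refine ⟨(e.hom.val.app (op (Over.mk f))).hom y, funext fun i => ?_⟩
    have hα : (α.val.app (op (Over.mk f))).hom ((e.hom.val.app (op (Over.mk f))).hom y) = z :=
      (congrFun (congrArg (appAt (Over.mk f)) (IsLimit.conePointUniqueUpToIso_hom_comp (kernelIsKernel φ) he.fIsKernel WalkingParallelPair.zero)) y).trans hy
    show ((biproduct.π (fun _ : I => (ModSite.restr O V).obj G) i).val.app (op (Over.mk f))).hom ((α.val.app (op (Over.mk f))).hom _) = m i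
    rw [hα, map_sum, Finset.sum_eq_single i]
    · exact congrFun (congrArg (appAt (Over.mk f)) (biproduct.ι_π_self (fun _ : I => (ModSite.restr O V).obj G) i)) (m i)
    · intro j _ hj
      exact congrFun (congrArg (appAt (Over.mk f)) (biproduct.ι_π_ne (fun _ : I => (ModSite.restr O V).obj G) hj)) (m j)
    · exact fun h => absurd (Finset.mem_univ i) h

/-- The internal hom out of a presented module. -/
theorem nonempty_locKer_sheafHom (F G : ModSite.Mod O) [ModSite.HasSheafHom F]
    (P : SheafOfModules.Presentation ((ModSite.restr O V).obj F)) [P.IsFinite] :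
    Nonempty (LocKer ((ModSite.sheafHom F).obj G) G V) := by
  haveI : ModSite.HasSheafHom ((ModSite.restr O V).obj F) := ModTensor.hasSheafHom (O.over V) _
  let F' := (ModSite.restr O V).obj F
  let G' := (ModSite.restr O V).obj G
  haveI : Finite P.generators.I := SheafOfModules.GeneratingSections.IsFiniteType.finite
  haveI : Finite P.relations.I := SheafOfModules.GeneratingSections.IsFiniteType.finite
  letI := Fintype.ofFinite P.generators.I
  letI := Fintype.ofFinite P.relations.I
  let A : ModSite.Mod (O.over V) := SheafOfModules.free P.relations.I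
  let B : ModSite.Mod (O.over V) := SheafOfModules.free P.generators.I
  let π : B ⟶ F' := P.generators.π
  let r : A ⟶ B := P.relations.π ≫ kernel.ι P.generators.π
  have w : r ≫ π = 0 := by simp [r, π]
  haveI : Epi π := inferInstanceAs (Epi P.generators.π)
  have hex : (ShortComplex.mk r π w).Exact := by
    rw [ShortComplex.exact_iff_epi_kernel_lift]
    have h : kernel.lift π r w = P.relations.π := by
      rw [← cancel_mono (kernel.ι π), kernel.lift_ι]
    show Epi (kernel.lift π r w)
    rw [h]
    infer_instance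
  let u := (ModSite.tensorBi (O.over V)).flip.map r
  let p := (ModSite.tensorBi (O.over V)).flip.map π
  have hup : u ≫ p = 0 := by
    ext T : 2
    show ((ModSite.tensorBi (O.over V)).obj T).map r ≫ ((ModSite.tensorBi (O.over V)).obj T).map π = _
    rw [← Functor.map_comp, w, Functor.map_zero]
    rfl
  have hpc : ∀ T, PreservesFiniteColimits ((ModSite.tensorBi (O.over V)).obj T) := fun T =>
    (preservesColimitsOfSize_shrink.{0, u, 0, u} ((ModSite.tensorBi (O.over V)).obj T)) |> fun _ =>
      ⟨fun _ _ _ => inferInstance⟩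
  have hp : ∀ T, Epi (p.app T) := fun T => by
    haveI := hpc T
    show Epi (((ModSite.tensorBi (O.over V)).obj T).map π)
    infer_instance
  have hcok : ∀ (T G : ModSite.Mod (O.over V)) (a : ((ModSite.tensorBi (O.over V)).flip.obj B).obj T ⟶ G),
      u.app T ≫ a = 0 → ∃ b, p.app T ≫ b = a := fun T G a ha => by
    haveI := hpc T
    let S := (ShortComplex.mk r π w).map ((ModSite.tensorBi (O.over V)).obj T)
    have hS : S.Exact := hex.map_of_epi_of_preservesCokernel _ inferInstance inferInstance
    haveI : Epi S.g := hp T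
    exact ⟨hS.desc a ha, hS.g_desc a ha⟩
  obtain ⟨w', hm, he⟩ := FPHomLib.leftExact_rightAdjoints (ModSite.sheafHomAdj A) (ModSite.sheafHomAdj B)
    (ModSite.sheafHomAdj F') u p hup hp hcok G' fun T => FPHomLib.conj_zero (O.over V) A T G'
  have efree : ∀ (ι : Type u) [Finite ι], Nonempty ((ModSite.sheafHom (SheafOfModules.free ι : ModSite.Mod (O.over V))).obj G' ≅ ⨁ fun _ : ι => G') := by
    intro ι _
    haveI := FPHomLib.isIso_tensFree (O.over V) ι
    let e : Functor.const (Discrete ι) ⋙ lim (C := ModSite.Mod (O.over V)) ≅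
        ModSite.sheafHom (SheafOfModules.free ι : ModSite.Mod (O.over V)) :=
      Adjunction.rightAdjointUniq
        (((constLimAdj (J := Discrete ι) (C := ModSite.Mod (O.over V))).comp colimConstAdj).ofNatIsoLeft
          (asIso (FPHomLib.tensFree (O.over V) ι)))
        (ModSite.sheafHomAdj (SheafOfModules.free ι : ModSite.Mod (O.over V)))
    exact ⟨(e.app G').symm ≪≫ HasLimit.isoOfNatIso (F := (Functor.const (Discrete ι)).obj G')
      (G := Discrete.functor fun _ : ι => G') (Discrete.natIso fun _ => Iso.refl _) ≪≫ (biproduct.isoProduct _).symm⟩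
  obtain ⟨eI⟩ := efree P.generators.I
  obtain ⟨eK⟩ := efree P.relations.I
  let ψ := (SiteBase.ExtZeroPre.restrSheafHomIso O V F).app G
  let α := ψ.hom ≫ (conjugateEquiv (ModSite.sheafHomAdj F') (ModSite.sheafHomAdj B) p).app G' ≫ eI.hom
  let φ := eI.inv ≫ (conjugateEquiv (ModSite.sheafHomAdj B) (ModSite.sheafHomAdj A) u).app G' ≫ eK.hom
  have hw : α ≫ φ = 0 := by
    simp only [α, φ, Category.assoc, Iso.hom_inv_id_assoc]
    rw [reassoc_of% w', zero_comp, comp_zero]
  haveI := hm
  exact ⟨LocKer.ofExact α φ hw (inferInstanceAs (Mono (_ ≫ _ ≫ _)))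
    (ShortComplex.exact_of_iso (ShortComplex.isoMk ψ.symm eI eK (by simp [α]) (by simp [φ])) he)⟩

end

end Groth.Agent.FSchHomLib
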