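import Groth.Agent.FSchHomLib.LocKer
import Groth.Agent.FComplLib.QCKernel

/-!
# Quasi-coherence of a module which is locally a kernel between powers of a quasi-coherent module
-/

set_option autoImplicit false
set_option linter.style.haveILetI false
set_option linter.unusedVariables false
set_option backward.isDefEq.respectTransparency false
set_option backward.isDefEq.respectTransparency.types false
set_option maxHeartbeats 4000000
universe u

open CategoryTheory CategoryTheory.Limits AlgebraicGeometry TopologicalSpace Opposite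

noncomputable section

namespace Groth.Agent.FSchHomLib

open Groth.Agent.FCompl

variable {𝔛 : FSch.Sys.{u}} {h : 𝔛.IsFormal} {M 𝔊 : FSch.ModF 𝔛 h} {U V V' : (𝔛.X 0).Opens}

local notation "mr" => FPLocal.mres

/-- Relations of finitely many vectors of sections over an affine open. -/
theorem relComplete_vec (hL : 𝔛.IsLocNoethFormal) (D : RelData 𝔊 V') (hU : IsAffineOpen U) (hUV' : U ≤ V')
    {ι K : Type u} [Fintype ι] (s : ι → K → 𝔊.val.obj (op U)) (T : Finset K) :
    ∃ (l : ℕ) (c : ULift.{u} (Fin l) → ι → OR 𝔛 h U), (∀ m, ∀ k ∈ T, ∑ i, c m i • s i k = 0) ∧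
      ∀ ⦃W : (𝔛.X 0).Opens⦄ (g : W ⟶ U) (d : ι → OR 𝔛 h W), (∀ k ∈ T, ∑ i, d i • mr 𝔊 g.op (s i k) = 0) →
        FPLocal.Locally (Opens.grothendieckTopology _) W fun Z q => ∃ e : ULift.{u} (Fin l) → OR 𝔛 h Z,
          ∀ i, ∑ m, e m * rsO 𝔛 h (leOfHom (q ≫ g)) (c m i) = rsO 𝔛 h (leOfHom q) (d i) := by
  classical
  induction T using Finset.induction with
  | empty =>
    let en : ι ≃ ULift.{u} (Fin (Fintype.card ι)) := (Fintype.equivFin ι).trans Equiv.ulift.symm
    refine ⟨Fintype.card ι, fun m i => if en i = m then 1 else 0, fun m k hk => absurd hk (Finset.notMem_empty k),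
      fun W g d hd => FPLocal.Locally.of_self fun Z q => ⟨fun m => rsO 𝔛 h (leOfHom q) (d (en.symm m)), fun i => ?_⟩⟩
    rw [Finset.sum_eq_single (en i)]
    all_goals try dsimp only
    · rw [if_pos rfl, map_one, mul_one, Equiv.symm_apply_apply]
    · intro m _ hm
      rw [if_neg (show ¬ en i = m from fun e => hm e.symm), map_zero, mul_zero]
    · exact fun hc => absurd (Finset.mem_univ _) hc
  | insert k₀ T hk₀ ih =>
    obtain ⟨l, c, hc0, hc⟩ := ih
    obtain ⟨l', c', hc0', hc'⟩ := relComplete_qc hL D hU hUV' (fun m => ∑ i, c m i • s i k₀)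
    refine ⟨l', fun m' i => ∑ m, c' m' m * c m i, fun m' k hk => ?_, fun W g d hd => ?_⟩
    · simp only [Finset.sum_smul, mul_smul]
      rw [Finset.sum_comm]
      simp only [← Finset.smul_sum]
      rcases Finset.mem_insert.1 hk with rfl | hk
      · exact hc0' m'
      · exact Finset.sum_eq_zero fun m _ => by rw [hc0 m k hk, smul_zero]
    refine FPLocal.Locally.bind (hc g d fun k hk => hd k (Finset.mem_insert_of_mem hk)) fun Z q ⟨e, he⟩ => ?_
    have hz : ∑ m, e m • mr 𝔊 (q ≫ g).op (∑ i, c m i • s i k₀) = 0 := by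
      have e' := congrArg (mr 𝔊 (homOfLE (leOfHom q)).op) (hd k₀ (Finset.mem_insert_self _ _))
      rw [map_sum, map_zero] at e'
      refine Eq.trans ?_ e'
      simp only [map_sum, Finset.smul_sum]
      rw [Finset.sum_comm]
      refine Finset.sum_congr rfl fun i _ => ?_
      refine Eq.trans ?_ (mres_smul' (leOfHom q) (d i) _).symm
      rw [← he i, Finset.sum_smul]
      refine Finset.sum_congr rfl fun m _ => ?_
      rw [mul_smul]
      refine congrArg (e m • ·) ?_
      refine (mres_smul' (leOfHom (q ≫ g)) (c m i) _).trans (congrArg (rsO 𝔛 h (leOfHom (q ≫ g)) (c m i) • ·) ?_)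
      exact FPLocal.mres_comp (M := 𝔊) g.op (homOfLE (leOfHom q)).op (s i k₀)
    obtain ⟨S, hS, hS'⟩ := hc' (q ≫ g) e hz
    refine ⟨S, hS, fun Y p hp => ?_⟩
    obtain ⟨e', he'⟩ := hS' p hp
    refine ⟨e', fun i => ?_⟩
    have h1 : ∀ m, ∑ m', (show OR 𝔛 h Y from e' m') * rsO 𝔛 h (leOfHom (p ≫ q ≫ g)) (c' m' m) =
        rsO 𝔛 h (leOfHom p) (e m) := he'
    have h2 := congrArg (rsO 𝔛 h (leOfHom p)) (he i)
    simp only [map_sum, map_mul, rsO_rsO] at h2
    simp only [map_sum, map_mul, Finset.mul_sum]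
    rw [Finset.sum_comm]
    refine Eq.trans (Finset.sum_congr rfl fun m _ => ?_) h2
    rw [← h1 m, Finset.sum_mul]
    exact Finset.sum_congr rfl fun m' _ => (mul_assoc _ _ _).symm

variable (L : LocKer M 𝔊 V) (hL : 𝔛.IsLocNoethFormal) (D : RelData 𝔊 V') (hU : IsAffineOpen U) (hUV : U ≤ V)
  (hUV' : U ≤ V')

include L hL D hU hUV hUV'

theorem genFin_locKer : GenFin M (id : M.val.obj (op U) → _) := by
  classical
  letI := L.fI
  letI := L.fK
  refine genFin_of_family fun W g z => ?_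
  let g' : W ⟶ V := g ≫ homOfLE hUV
  refine FPLocal.Locally.bind (FPLocal.Locally.forall (ι := L.I) fun i => D.gen (g ≫ homOfLE hUV') (L.ev g' z i))
    fun Z q hq => ?_
  choose S a ha using hq
  let S' := Finset.univ.biUnion S
  let b : L.I × ↥S' → OR 𝔛 h Z := fun p => if p.2.1 ∈ S p.1 then a p.1 p.2.1 else 0
  let tU : ↥S' → 𝔊.val.obj (op U) := fun j => mr 𝔊 (homOfLE hUV').op (D.t j.1)
  let sv : L.I × ↥S' → L.K → 𝔊.val.obj (op U) := fun p => L.φ (homOfLE hUV) (Pi.single p.1 (tU p.2))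
  obtain ⟨l, c, hc0, hc⟩ := relComplete_vec hL D hU hUV' sv Finset.univ
  have hκ : ∀ m, ∃ κ : M.val.obj (op U), L.ev (homOfLE hUV) κ = fun i => ∑ j, c m (i, j) • tU j := fun m => by
    refine L.exact (homOfLE hUV) _ (funext fun k => ?_)
    have e : (fun i => ∑ j, c m (i, j) • tU j) = ∑ p : L.I × ↥S', c m p • Pi.single p.1 (tU p.2) := funext fun i => by
      rw [Finset.sum_apply, Fintype.sum_prod_type, Finset.sum_eq_single i]
      · exact Finset.sum_congr rfl fun j _ => by rw [Pi.smul_apply, Pi.single_eq_same]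
      · exact fun i' _ hi' => Finset.sum_eq_zero fun j _ => by rw [Pi.smul_apply, Pi.single_eq_of_ne hi'.symm, smul_zero]
      · exact fun hc => absurd (Finset.mem_univ _) hc
    rw [e, map_sum, Finset.sum_apply]
    refine Eq.trans (Finset.sum_congr rfl fun p _ => ?_) (hc0 m k (Finset.mem_univ k))
    exact congrFun (map_smul (L.φ (homOfLE hUV)) (c m p) _) k
  choose κ hκ using hκ
  have hb : ∀ i, ∑ j : ↥S', b (i, j) • mr 𝔊 (q ≫ g).op (tU j) = mr 𝔊 q.op (L.ev g' z i) := fun i => by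
    refine Eq.trans ?_ (ha i)
    rw [Finset.sum_coe_sort S' fun j => (if j ∈ S i then a i j else 0 : OR 𝔛 h Z) • mr 𝔊 (q ≫ g).op (mr 𝔊 (homOfLE hUV').op (D.t j))]
    refine (Finset.sum_subset (fun j hj => Finset.mem_biUnion.2 ⟨i, Finset.mem_univ i, hj⟩)
      fun j _ hj => by rw [if_neg hj, zero_smul]).symm.trans (Finset.sum_congr rfl fun j hj => ?_)
    rw [if_pos hj, ← FPLocal.mres_comp]
    rfl
  have hrel : ∀ k, ∑ p, b p • mr 𝔊 (q ≫ g).op (sv p k) = 0 := fun k => by
    have e : ∀ p : L.I × ↥S', L.φ ((q ≫ g) ≫ homOfLE hUV) (fun i => mr 𝔊 (q ≫ g).op (Pi.single (M := fun _ => 𝔊.val.obj (op U)) p.1 (tU p.2) i)) k =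
        mr 𝔊 (q ≫ g).op (sv p k) := fun p => L.φ_res _ _ _ k
    simp only [← e]
    have e0 : ∑ p : L.I × ↥S', b p • (fun i => mr 𝔊 (q ≫ g).op (Pi.single (M := fun _ => 𝔊.val.obj (op U)) p.1 (tU p.2) i)) =
        fun i => mr 𝔊 q.op (L.ev g' z i) := funext fun i => by
      rw [← hb i, Finset.sum_apply, Fintype.sum_prod_type, Finset.sum_eq_single i]
      · exact Finset.sum_congr rfl fun j _ => by rw [Pi.smul_apply, Pi.single_eq_same]
      · exact fun i' _ hi' => Finset.sum_eq_zero fun j _ => by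
          rw [Pi.smul_apply, Pi.single_eq_of_ne hi'.symm, map_zero, smul_zero]
      · exact fun hc => absurd (Finset.mem_univ _) hc
    have e1 := congrFun ((map_sum (L.φ ((q ≫ g) ≫ homOfLE hUV)) _ Finset.univ).symm.trans (congrArg (L.φ ((q ≫ g) ≫ homOfLE hUV)) e0)) k
    rw [Finset.sum_apply] at e1
    refine Eq.trans (Finset.sum_congr rfl fun p _ => ?_) (e1.trans ?_)
    · exact (congrFun (map_smul (L.φ ((q ≫ g) ≫ homOfLE hUV)) (b p) _) k).symm
    · refine (L.φ_res g' q _ k).trans ?_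
      rw [L.comp g' z]
      exact map_zero _
  refine (hc (q ≫ g) b fun k _ => hrel k).mono fun Y p hp => ?_
  obtain ⟨e, he⟩ := hp
  refine ⟨ULift.{u} (Fin l), inferInstance, κ, e, L.inj ((p ≫ q) ≫ g') (funext fun i => ?_)⟩
  rw [map_sum, Finset.sum_apply, L.ev_res g' (p ≫ q) z i]
  have h1 := congrArg (mr 𝔊 p.op) (hb i)
  rw [map_sum, ← FPLocal.mres_comp] at h1
  refine Eq.trans ?_ h1
  have h2 : ∀ m, L.ev ((p ≫ q) ≫ g') (e m • mr M ((p ≫ q) ≫ g).op (id (κ m))) i =
      ∑ j, (e m * rsO 𝔛 h (leOfHom (p ≫ q ≫ g)) (c m (i, j))) • mr 𝔊 (p ≫ q ≫ g).op (tU j) := fun m => by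
    refine (congrFun (map_smul (L.ev ((p ≫ q) ≫ g')) (e m) _) i).trans ?_
    rw [Pi.smul_apply, id_eq]
    refine (congrArg (e m • ·) ((L.ev_res (homOfLE hUV) ((p ≫ q) ≫ g) (κ m) i).trans
      (congrArg (mr 𝔊 ((p ≫ q) ≫ g).op) (congrFun (hκ m) i)))).trans ?_
    rw [map_sum, Finset.smul_sum]
    refine Finset.sum_congr rfl fun j _ => ?_
    rw [mul_smul]
    exact congrArg (e m • ·) (PresheafOfModules.map_smul 𝔊.val _ _ _)
  refine (Finset.sum_congr rfl fun m _ => h2 m).trans ?_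
  rw [Finset.sum_comm]
  refine Finset.sum_congr rfl fun j _ => ?_
  rw [← Finset.sum_smul]
  refine (congrArg (· • mr 𝔊 (p ≫ q ≫ g).op (tU j)) (he (i, j))).trans ?_
  refine Eq.trans ?_ (PresheafOfModules.map_smul 𝔊.val p.op (b (i, j)) _).symm
  exact congrArg _ (FPLocal.mres_comp (M := 𝔊) (q ≫ g).op p.op (tU j))

theorem relFin_locKer : RelFin M (id : M.val.obj (op U) → _) := by
  classical
  letI := L.fI
  refine relFin_of_family fun W g S d hd0 hd => ?_
  obtain ⟨n, c, hc0, hc⟩ := relComplete_vec hL D hU hUV'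
    (fun s : ↥S => L.ev (homOfLE hUV) s.1) Finset.univ
  have hd' : ∀ i, ∑ s : ↥S, d s.1 • mr 𝔊 g.op (L.ev (homOfLE hUV) s.1 i) = 0 := fun i => by
    have e := congrFun (congrArg (L.ev (g ≫ homOfLE hUV)) hd) i
    rw [map_sum, map_zero, ← Finset.sum_coe_sort, Finset.sum_apply] at e
    refine Eq.trans (Finset.sum_congr rfl fun s _ => ?_) e
    refine Eq.trans ?_ (congrFun (map_smul (L.ev (g ≫ homOfLE hUV)) (d s.1) _) i).symm
    exact congrArg (d s.1 • ·) (L.ev_res (homOfLE hUV) g s.1 i).symm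
  let c' : ULift.{u} (Fin n) → M.val.obj (op U) → OR 𝔛 h U := fun k s =>
    if hs : s ∈ S then c k ⟨s, hs⟩ else 0
  have hc' : ∀ k, ∑ s ∈ S, c' k s • id s = 0 := fun k => by
    refine L.inj (homOfLE hUV) (funext fun i => ?_)
    rw [map_sum, map_zero, ← Finset.sum_coe_sort, Finset.sum_apply]
    refine Eq.trans (Finset.sum_congr rfl fun s _ => ?_) (hc0 k i (Finset.mem_univ i))
    refine (congrFun (map_smul (L.ev (homOfLE hUV)) (c' k s.1) _) i).trans ?_
    exact congrArg (fun x : OR 𝔛 h U => x • L.ev (homOfLE hUV) s.1 i) (dif_pos s.2)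
  refine (hc g (fun s : ↥S => d s.1) fun i _ => hd' i).mono fun Y q hq => ?_
  obtain ⟨e, he⟩ := hq
  refine ⟨ULift.{u} (Fin n), inferInstance, e,
    fun k => mkFinRel id S (c' k) (fun s hs => dif_neg hs) (hc' k), fun s => ?_⟩
  by_cases hs : s ∈ S
  · refine Eq.trans (Finset.sum_congr rfl fun k _ => ?_) (he ⟨s, hs⟩)
    refine congrArg (fun x : OR 𝔛 h U => e k * rsO 𝔛 h (leOfHom (q ≫ g)) x) ?_
    exact dif_pos hs
  · rw [hd0 s hs, map_zero]
    refine Finset.sum_eq_zero fun k _ => ?_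
    refine (congrArg (fun x : OR 𝔛 h U => e k * rsO 𝔛 h (leOfHom (q ≫ g)) x)
      (dif_neg hs : c' k s = 0)).trans ?_
    exact (congrArg (e k * ·) (map_zero _)).trans (mul_zero _)

end Groth.Agent.FSchHomLib
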